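import Groth.Agent.S12072
import Groth.Agent.Lib.MaxTorBC14.Comm
import Groth.Agent.Lib.MaxTorBC14.Geom
import Groth.Agent.Lib.AffPart16.General

/-!
# Images of maximal tori
-/

set_option autoImplicit false
set_option linter.all false
set_option backward.isDefEq.respectTransparency false

universe u

open CategoryTheory CategoryTheory.Limits MonoidalCategory CartesianMonoidalCategory MonObj GrpObj AlgebraicGeometry

set_option maxHeartbeats 1600000
set_option synthInstance.maxHeartbeats 400000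

namespace GrothLib.TorusImage14

open GrothLib.DiagGrp

variable {S : Scheme.{u}}

/-- The image of a torus in a separated group of finite presentation is a torus and a closed subgroup. -/
theorem exists_image_torus {T G : Over S} [GrpObj T] [GrpObj G] [IsSeparated G.hom] [QuasiCompact G.hom]
    (hG : LocallyOfFinitePresentation G.hom) (hT : Red.IsTorus T) (u : T ⟶ G) [IsMonHom u] :
    ∃ (Q : Over S) (_ : GrpObj Q) (j : Q ⟶ G) (p : T ⟶ Q), IsMonHom j ∧ IsMonHom p ∧ IsClosedImmersion j.left ∧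
      Red.IsTorus Q ∧ Flat p.left ∧ Surjective p.left ∧ p ≫ j = u := by
  haveI : IsAffineHom T.hom := GrothLib.EssFree.isAffineHom_of_charts (hasChartsFpqc_of_isTorus hT)
  haveI : QuasiCompact u.left := by
    haveI : QuasiCompact (u.left ≫ G.hom) := by rw [Over.w u]; infer_instance
    exact QuasiCompact.of_comp _ G.hom
  obtain ⟨S', π, h1, h2, h3, h4⟩ := GrothLib.MaxTorBC14.hasCharts_free hT
  haveI := h1; haveI := h2
  obtain ⟨Q, gQ, j, hj, p, hp, hjc, hpf, hps, hpj, hch⟩ :=
    GrothLib.MonoMT14.exists_image_of_charts π hG u GrothLib.MaxTorBC14.freeM h4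
  refine ⟨Q, gQ, j, p, hj, hp, hjc, ⟨S', π, h1, h2, h3, fun s => ?_⟩, hpf, hps, hpj⟩
  obtain ⟨N, instN, U, hU, ⟨r, ⟨φ⟩⟩, Λ, -, ⟨eI⟩⟩ := hch s
  haveI : Module.Free ℤ N := Module.Free.of_equiv φ.toIntLinearEquiv
  haveI : Module.Finite ℤ N := Module.Finite.equiv φ.toIntLinearEquiv
  let Λ' := AddSubgroup.toIntSubmodule Λ
  let ψ : (Fin (Module.finrank ℤ Λ') → ℤ) ≃+ Λ := (Module.finBasis ℤ Λ').equivFun.symm.toAddEquiv
  obtain ⟨eB⟩ := GrothLib.QuotTorus14.exists_iso_DS (U : Scheme.{u}) ψ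
  exact ⟨U, hU, _, ⟨eI ≪≫ eB⟩⟩

variable {K : Type u} [Field K] [IsAlgClosed K]

/-- A homomorphism out of the source of an fppf map with smaller kernel descends. -/
theorem exists_descend {A B C : Over S} [GrpObj A] [GrpObj B] [GrpObj C] (p : A ⟶ B) [IsMonHom p] [Flat p.left] [Surjective p.left]
    [LocallyOfFinitePresentation p.left] {D : Over S} [GrpObj D] (q : A ⟶ C) (i : B ⟶ D) (i' : C ⟶ D) [Mono i'] (h : p ≫ i = q ≫ i') :
    ∃ g : B ⟶ C, p ≫ g = q ∧ g ≫ i' = i := by
  obtain ⟨g, hg⟩ := GrothLib.QuotTorus14.exists_desc p q fun R _ pp a b hab => by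
    rw [← cancel_mono i', Category.assoc, Category.assoc, ← h, reassoc_of% hab]
  haveI := GrothLib.QuotTorus14.epi_of_flat_surjective p
  exact ⟨g, hg, (cancel_epi p).mp (by rw [reassoc_of% hg, h])⟩

/-- Over an algebraically closed field a surjection of smooth groups restricts to one of neutral components, and
maps maximal tori to maximal tori. -/
theorem isMaxTorus_image {G H : Over (Spec (CommRingCat.of K))} [GrpObj G] [GrpObj H]
    [Smooth G.hom] [QuasiCompact G.hom] [Smooth H.hom] [QuasiCompact H.hom]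
    (v : G ⟶ H) [IsMonHom v] [Surjective v.left]
    {T : Over (Spec (CommRingCat.of K))} [GrpObj T] (i : T ⟶ G) (hT : Red.IsMaximalTorus i)
    {T' : Over (Spec (CommRingCat.of K))} [GrpObj T'] (i' : T' ⟶ H) [IsMonHom i'] [Mono i'] (hT't : Red.IsTorus T')
    (w : T ⟶ T') [IsMonHom w] [Flat w.left] [Surjective w.left] (hw : w ≫ i' = i ≫ v) :
    Red.IsMaximalTorus i' := by
  haveI : IsSeparated G.hom := GrothLib.GrpSchField.isSeparated G
  haveI : IsSeparated H.hom := GrothLib.GrpSchField.isSeparated H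
  haveI : IsReduced H.left := GrothLib.RedSmooth.isReduced_of_smooth H.hom
  haveI : QuasiCompact v.left := by
    haveI : QuasiCompact (v.left ≫ H.hom) := by rw [Over.w v]; infer_instance
    exact QuasiCompact.of_comp _ H.hom
  haveI : Flat v.left := GrothLib.GrpSchField.flat_hom v
  obtain ⟨G₀, _, j, hj, hjc, hjo, hG₀s, hG₀q, hG₀c, hjfac⟩ := GrothLib.AffPart16.exists_neutral G
  obtain ⟨H₀, _, j', hj', hj'c, hj'o, hH₀s, hH₀q, hH₀c, hj'fac⟩ := GrothLib.AffPart16.exists_neutral H
  haveI := hj; haveI := hjc; haveI := hjo; haveI := hG₀s; haveI := hG₀q; haveI := hG₀c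
  haveI := hj'; haveI := hj'c; haveI := hj'o; haveI := hH₀s; haveI := hH₀q; haveI := hH₀c
  haveI : Mono j := Over.mono_of_mono_left j
  haveI : Mono j' := Over.mono_of_mono_left j'
  obtain ⟨him, himono, hTt, -⟩ := id hT
  haveI := him; haveI := himono
  obtain ⟨-, -, -, hTc⟩ := GrothLib.Chev24.torus_facts' hTt i
  obtain ⟨t₀, ht₀⟩ := hjfac T i hTc (GrothLib.AffPart16.eta_mem_range i)
  haveI : IsMonHom (t₀ ≫ j) := by rw [ht₀]; infer_instance
  haveI : IsMonHom t₀ := GrothLib.CentMT14.isMonHom_of_comp t₀ j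
  haveI : Mono (t₀ ≫ j) := by rw [ht₀]; infer_instance
  haveI : Mono t₀ := mono_of_mono t₀ j
  obtain ⟨-, -, -, hTmax⟩ := GrothLib.Chev24.isMaxTorus_of_isMaximalTorus hT
  have ht₀max : Red.IsMaximalTorus t₀ := GrothLib.Flag27.isMaximalTorus_of_isMaxTorus
    ⟨inferInstance, inferInstance, hTt, fun R _ r _ _ f hR hf => by
      haveI : Mono (r ≫ j) := mono_comp r j
      exact hTmax R (r ≫ j) f hR (by rw [reassoc_of% hf, ht₀])⟩
  obtain ⟨u₀, hu₀⟩ := hj'fac G₀ (j ≫ v) hG₀c (GrothLib.AffPart16.eta_mem_range (j ≫ v))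
  haveI : IsMonHom (u₀ ≫ j') := by rw [hu₀]; infer_instance
  haveI : IsMonHom u₀ := GrothLib.CentMT14.isMonHom_of_comp u₀ j'
  haveI : QuasiCompact u₀.left := by
    haveI : QuasiCompact (u₀.left ≫ H₀.hom) := by rw [Over.w u₀]; infer_instance
    haveI : IsSeparated H₀.hom := GrothLib.GrpSchField.isSeparated H₀
    exact QuasiCompact.of_comp _ H₀.hom
  haveI : Surjective u₀.left := by
    haveI : LocallyOfFiniteType v.left := by
      haveI : LocallyOfFiniteType (v.left ≫ H.hom) := by rw [Over.w v]; infer_instance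
      exact locallyOfFiniteType_of_comp v.left H.hom
    haveI : IsLocallyNoetherian H.left := LocallyOfFiniteType.isLocallyNoetherian H.hom
    haveI : LocallyOfFinitePresentation v.left := inferInstance
    have hopen : IsOpen (Set.range u₀.left.base) := by
      have h : Set.range u₀.left.base = j'.left.base ⁻¹' (Set.range (j ≫ v).left.base) := by
        rw [← hu₀, Over.comp_left, Scheme.Hom.comp_base, TopCat.coe_comp, Set.range_comp,
          Set.preimage_image_eq _ j'.left.isOpenEmbedding.injective]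
      rw [h]
      refine IsOpen.preimage j'.left.continuous ?_
      rw [Over.comp_left, Scheme.Hom.comp_base, TopCat.coe_comp, Set.range_comp]
      exact v.left.isOpenMap _ j.left.isOpenEmbedding.isOpen_range
    obtain ⟨I, _, p, iI, hp, hiI, hpi, hps, -, -, himono', hIl, -⟩ := GrothLib.Neutral.exists_factor_field u₀
    haveI := hp; haveI := hiI; haveI := hps; haveI := himono'; haveI := hIl
    haveI := (GrothLib.Neutral.isClosedImmersion_factor u₀ hpi).1
    have hclosed : IsClosed (Set.range u₀.left.base) := by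
      rw [← hpi, Over.comp_left, Scheme.Hom.comp_base, TopCat.coe_comp, Set.range_comp,
        p.left.surjective.range_eq, Set.image_univ]
      exact iI.left.isClosedEmbedding.isClosed_range
    refine ⟨Set.range_eq_univ.mp ((IsClopen.eq_univ ⟨hclosed, hopen⟩) ?_)⟩
    exact ⟨_, GrothLib.AffPart16.eta_mem_range u₀⟩
  obtain ⟨T'', _, t'', w₀, ht'', hw₀m, hw₀f, hw₀s, hw₀⟩ := Groth.Agent.S12072.isMaximalTorus_image u₀ t₀ ht₀max
  haveI := hw₀m; haveI := hw₀f; haveI := hw₀s
  obtain ⟨ht''m, ht''mono, -, hT''max⟩ := GrothLib.Chev24.isMaxTorus_of_isMaximalTorus ht''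
  haveI := ht''m; haveI := ht''mono
  haveI : Mono (t'' ≫ j') := mono_comp t'' j'
  have e : w₀ ≫ t'' ≫ j' = w ≫ i' := by rw [reassoc_of% hw₀, hu₀, reassoc_of% ht₀, hw]
  refine GrothLib.Flag27.isMaximalTorus_of_isMaxTorus ⟨inferInstance, inferInstance, hT't, fun R _ r _ _ f hR hf => ?_⟩
  obtain ⟨-, -, -, hRc⟩ := GrothLib.Chev24.torus_facts' hR r
  obtain ⟨r₀, hr₀⟩ := hj'fac R r hRc (GrothLib.AffPart16.eta_mem_range r)
  haveI : IsMonHom (r₀ ≫ j') := by rw [hr₀]; infer_instance
  haveI : IsMonHom r₀ := GrothLib.CentMT14.isMonHom_of_comp r₀ j'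
  haveI : Mono (r₀ ≫ j') := by rw [hr₀]; infer_instance
  haveI : Mono r₀ := mono_of_mono r₀ j'
  haveI : LocallyOfFiniteType T.hom := (GrothLib.OneMotFaith14.isAffine_of_isTorus hTt).2
  haveI : LocallyOfFiniteType T'.hom := (GrothLib.OneMotFaith14.isAffine_of_isTorus hT't).2
  haveI : LocallyOfFiniteType T''.hom := (GrothLib.OneMotFaith14.isAffine_of_isTorus ht''.2.2.1).2
  haveI : LocallyOfFinitePresentation w₀.left := GrothLib.AlbTors16.lfp_of_surj w₀
  haveI : LocallyOfFinitePresentation w.left := GrothLib.AlbTors16.lfp_of_surj w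
  obtain ⟨g, hg, hg'⟩ := exists_descend w₀ (w ≫ f) (t'' ≫ j') r (by rw [Category.assoc, hf, e])
  obtain ⟨a, ha, ha'⟩ := exists_descend w₀ w (t'' ≫ j') i' e
  obtain ⟨b, hb, hb'⟩ := exists_descend w w₀ i' (t'' ≫ j') e.symm
  haveI : IsIso g := hT''max R r₀ g hR ((cancel_mono j').1 (by rw [Category.assoc, hr₀, hg']))
  haveI : IsIso b := ⟨a, (cancel_mono i').1 (by rw [Category.assoc, ha', hb', Category.id_comp]),
    (cancel_mono (t'' ≫ j')).1 (by rw [Category.assoc, hb', ha', Category.id_comp])⟩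
  have hfb : f = b ≫ g := (cancel_mono r).1 (by rw [Category.assoc, hf, hg', hb'])
  rw [hfb]
  infer_instance

end GrothLib.TorusImage14
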